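import Groth.Agent.ParGPLib.Basic
import Groth.Agent.CurveSDLib.Apps
import Groth.Agent.CurveVBLib.MaxSub
import Groth.Agent.CurveVBLib.Torsion
import Groth.Agent.CurveVBLib.Line
import Groth.Agent.CurveSDLib.Sections
import Groth.Agent.SeesawLib.Pulled

/-!
# Invariant submodules of twisted endomorphisms
-/

set_option autoImplicit false
set_option linter.style.haveILetI false
set_option maxHeartbeats 1000000
universe u

open CategoryTheory CategoryTheory.Limits AlgebraicGeometry TopologicalSpace Opposite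
open DevissLib CurvLib CurveVBLib

noncomputable section

namespace HiggsLib

variable {X : Scheme.{u}}

/-- `- ⊗ L`. -/
abbrev R (L : X.Modules) : X.Modules ⥤ X.Modules := ParGPLib.tensorRight' L

theorem isEquivalence_R {L : X.Modules} (hL : PicF.IsInvertible L) : (R L).IsEquivalence := by
  obtain ⟨eL⟩ := MiscFlat6.nonempty_dualIso hL
  haveI : (tensorLeft' L).IsEquivalence :=
    VBP1Lib.isEquivalence_tensor (L := L) (M := MiscFlat6.dual L) eL
  exact Functor.isEquivalence_of_iso (F := tensorLeft' L)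
    (NatIso.ofComponents (fun M => (KFlatLib.tensSwap L M).symm) fun {M N} f => by
      have h := CurveSDLib.swap_natural f L
      change ((DCoh.tensorBi (X := X)).obj L).map f ≫ (KFlatLib.tensSwap L N).inv =
        (KFlatLib.tensSwap L M).inv ≫ ((DCoh.tensorBi (X := X)).map f).app L
      rw [Iso.eq_inv_comp, ← Category.assoc, ← h, Category.assoc, Iso.hom_inv_id, Category.comp_id])

theorem mono_map {L : X.Modules} (hL : PicF.IsInvertible L) {A B : X.Modules} (f : A ⟶ B) [Mono f] :
    Mono ((R L).map f) := by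
  haveI := isEquivalence_R hL
  infer_instance

theorem epi_map {L : X.Modules} (hL : PicF.IsInvertible L) {A B : X.Modules} (f : A ⟶ B) [Epi f] :
    Epi ((R L).map f) := by
  haveI := isEquivalence_R hL
  infer_instance

/-- Lifting through the twist of a kernel. -/
theorem exists_lift {L : X.Modules} (hL : PicF.IsInvertible L) {S : ShortComplex X.Modules} (hS : S.ShortExact)
    {A : X.Modules} (h : A ⟶ (R L).obj S.X₂) (hh : h ≫ (R L).map S.g = 0) :
    ∃ χ : A ⟶ (R L).obj S.X₁, χ ≫ (R L).map S.f = h := by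
  haveI := isEquivalence_R hL
  haveI := ParGPLib.additive_tensorRight' L
  have hT := hS.map_of_exact (R L)
  haveI := hT.mono_f
  exact ⟨hT.exact.lift h hh, hT.exact.lift_f h hh⟩

/-- `j` is invariant under `φ`. -/
def Inv {L E : X.Modules} (φ : E ⟶ (R L).obj E) {G : X.Modules} (j : G ⟶ E) : Prop :=
  ∃ χ : G ⟶ (R L).obj G, χ ≫ (R L).map j = j ≫ φ

variable {L : X.Modules} {E F : X.Modules}

theorem inv_id (φ : E ⟶ (R L).obj E) : Inv φ (𝟙 E) := ⟨φ, by simp⟩

theorem inv_comp {φ : E ⟶ (R L).obj E} {G : X.Modules} {j : G ⟶ E} {χ : G ⟶ (R L).obj G}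
    (hχ : χ ≫ (R L).map j = j ≫ φ) {H : X.Modules} {i : H ⟶ G} (hi : Inv χ i) : Inv φ (i ≫ j) := by
  obtain ⟨ψ, hψ⟩ := hi
  exact ⟨ψ, by rw [Functor.map_comp, ← Category.assoc, hψ, Category.assoc, hχ, Category.assoc]⟩

variable (hL : PicF.IsInvertible L)

include hL

theorem inv_kernel (φ : E ⟶ (R L).obj E) (ψ : F ⟶ (R L).obj F) (f : E ⟶ F)
    (hf : f ≫ ψ = φ ≫ (R L).map f) : Inv φ (kernel.ι f) := by
  haveI := isEquivalence_R hL
  haveI := ParGPLib.additive_tensorRight' L
  obtain ⟨χ, hχ⟩ := exists_lift hL (S := kerImSeq f) (kerImSeq_shortExact f) (kernel.ι f ≫ φ) (by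
    haveI : Mono ((R L).map (Abelian.image.ι f)) := inferInstance
    change (kernel.ι f ≫ φ) ≫ (R L).map (Abelian.factorThruImage f) = 0
    rw [← cancel_mono ((R L).map (Abelian.image.ι f)), zero_comp, Category.assoc, ← Functor.map_comp,
      Abelian.image.fac, Category.assoc, ← hf, ← Category.assoc, kernel.condition, zero_comp])
  exact ⟨χ, hχ⟩

theorem inv_image (φ : E ⟶ (R L).obj E) (ψ : F ⟶ (R L).obj F) (f : E ⟶ F)
    (hf : f ≫ ψ = φ ≫ (R L).map f) : Inv ψ (Abelian.image.ι f) := by
  haveI := isEquivalence_R hL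
  haveI := ParGPLib.additive_tensorRight' L
  obtain ⟨χ, hχ⟩ := exists_lift hL (S := imCokSeq f) (imCokSeq_shortExact f) (Abelian.image.ι f ≫ ψ) (by
    change (Abelian.image.ι f ≫ ψ) ≫ (R L).map (cokernel.π f) = 0
    rw [← cancel_epi (Abelian.factorThruImage f), comp_zero, ← Category.assoc, ← Category.assoc,
      Abelian.image.fac, hf, Category.assoc, ← Functor.map_comp, cokernel.condition, Functor.map_zero, comp_zero])
  exact ⟨χ, hχ⟩

/-- The induced map on the quotient by an invariant submodule. -/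
theorem exists_quotient (φ : E ⟶ (R L).obj E) {G : X.Modules} (j : G ⟶ E) (hj : Inv φ j) :
    ∃ φ' : cokernel j ⟶ (R L).obj (cokernel j), cokernel.π j ≫ φ' = φ ≫ (R L).map (cokernel.π j) := by
  haveI := isEquivalence_R hL
  obtain ⟨χ, hχ⟩ := hj
  exact ⟨cokernel.desc j (φ ≫ (R L).map (cokernel.π j)) (by
    rw [← Category.assoc, ← hχ, Category.assoc, ← Functor.map_comp, cokernel.condition, Functor.map_zero,
      comp_zero]), cokernel.π_desc _ _ _⟩

/-- Preimages of invariant submodules of the quotient are invariant. -/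
theorem inv_preimage (φ : E ⟶ (R L).obj E) {G : X.Modules} (j : G ⟶ E)
    (φ' : cokernel j ⟶ (R L).obj (cokernel j))
    (hφ' : cokernel.π j ≫ φ' = φ ≫ (R L).map (cokernel.π j)) {H : X.Modules} (i : H ⟶ cokernel j) [Mono i]
    (hi : Inv φ' i) : Inv φ (kernel.ι (cokernel.π j ≫ cokernel.π i)) := by
  haveI := isEquivalence_R hL
  obtain ⟨ψ, hψ⟩ := hi
  let q := cokernel.π j ≫ cokernel.π i
  have h0 : (kernel.ι q ≫ cokernel.π j) ≫ cokernel.π i = 0 := by rw [Category.assoc]; exact kernel.condition q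
  let l := Abelian.monoLift i _ h0
  have hl : l ≫ i = kernel.ι q ≫ cokernel.π j := Abelian.monoLift_comp _ _ _
  let S : ShortComplex X.Modules := ShortComplex.mk (kernel.ι q) q (kernel.condition q)
  haveI : Epi q := epi_comp _ _
  have hS : S.ShortExact := ShortComplex.ShortExact.mk (ShortComplex.exact_kernel q)
  obtain ⟨χ, hχ⟩ := exists_lift hL hS (kernel.ι q ≫ φ) (by
    change (kernel.ι q ≫ φ) ≫ (R L).map q = 0
    rw [Functor.map_comp, Category.assoc, ← Category.assoc φ, ← hφ', Category.assoc, ← Category.assoc (kernel.ι q),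
      ← hl, Category.assoc, ← Category.assoc i, ← hψ, Category.assoc, ← Functor.map_comp, cokernel.condition,
      Functor.map_zero, comp_zero, comp_zero])
  exact ⟨χ, hχ⟩

section Curve

variable {k : Type u} [Field k] [X.Over (Spec (CommRingCat.of k))] [IsIntegral X]
  [IsProper (X ↘ Spec (CommRingCat.of k))]
  (hdim : topologicalKrullDim X = 1)

include hdim

theorem locFree_R {n : ℕ} (hE : FlatMod.IsFinLocFreeOfRank n E) : FlatMod.IsFinLocFreeOfRank n ((R L).obj E) := by
  have h := HopfIneqLib.locFree_tensor hE (CurvLib.locFree_of_isInvertible hL)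
  rw [mul_one] at h
  exact h

/-- The degree of a twist. -/
theorem dg_R {n : ℕ} (hE : FlatMod.IsFinLocFreeOfRank n E) :
    dg k ((R L).obj E) = dg k E + (n : ℤ) * Curv2.deg k X L 1 := by
  have h := (CurvLib.eulerTensorFormula_of_isCoh (k := k) hdim
    (CurvLib.locFree_of_isInvertible hL) E (CurvLib.isCoh_of_locFree hE)).2
  rw [genRank_eq hE] at h
  change Curv2.euler k X (CohB1.tensorMod L E) = _ at h
  rw [← deg_eq_dg (locFree_R hL hdim hE), ← deg_eq_dg hE]
  simp only [Curv2.deg] at h ⊢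
  rw [show Curv2.euler k X ((R L).obj E) = Curv2.euler k X (CohB1.tensorMod L E) from
    CurvLib.euler_congr (k := k) (HilbPolyLib.swapIso E L), h]
  push_cast
  ring

variable [Smooth (X ↘ Spec (CommRingCat.of k))]

/-- Submodules of a twist are twists of submodules. -/
theorem untwist {n : ℕ} (hE : FlatMod.IsFinLocFreeOfRank n E) {H : X.Modules} (ι : H ⟶ (R L).obj E) [Mono ι]
    (hH : Coh.IsCoh H) :
    ∃ (H' : X.Modules) (j : H' ⟶ E) (u : (R L).obj H' ≅ H), Mono j ∧
      FlatMod.IsFinLocFreeOfRank (genRank H) H' ∧ (R L).map j = u.hom ≫ ι ∧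
      dg k H = dg k H' + (genRank H : ℤ) * Curv2.deg k X L 1 := by
  haveI := isEquivalence_R hL
  obtain ⟨hHr, -, -, -, -⟩ := sub_data (k := k) hdim (locFree_R hL hdim hE) ι hH
  let H' := (R L).objPreimage H
  let u : (R L).obj H' ≅ H := (R L).objObjPreimageIso H
  obtain ⟨j, hj⟩ := (R L).map_surjective (u.hom ≫ ι)
  haveI : Mono ((R L).map j) := by rw [hj]; infer_instance
  haveI : Mono j := (R L).mono_of_mono_map (inferInstanceAs (Mono ((R L).map j)))
  obtain ⟨eL⟩ := MiscFlat6.nonempty_dualIso hL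
  let e : CohB1.tensorMod H (MiscFlat6.dual L) ≅ H' :=
    HilbPolyLib.congrLeft u.symm _ ≪≫ HilbPolyLib.assocIso H' L (MiscFlat6.dual L) ≪≫
      HilbPolyLib.swapIso _ _ ≪≫ HilbPolyLib.congrLeft eL H' ≪≫ HilbPolyLib.unitLeft H'
  have hH'r : FlatMod.IsFinLocFreeOfRank (genRank H) H' := by
    have h := HopfIneqLib.locFree_tensor hHr (CurvLib.locFree_of_isInvertible (MiscFlat6.dual_isInvertible hL))
    rw [mul_one] at h
    exact SeesawLib.isFinLocFreeOfRank_of_iso h e.symm
  refine ⟨H', j, u, inferInstance, hH'r, hj, ?_⟩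
  rw [← dg_R hL hdim hH'r, ← deg_eq_dg (locFree_R hL hdim hH'r), ← deg_eq_dg hHr, CurvLib.deg_congr (k := k) u]

end Curve

end HiggsLib

end
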