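import Groth.Agent.HiggsLib.Slope

/-!
# Opposite chains of invariant submodules
-/

set_option autoImplicit false
set_option linter.style.haveILetI false
set_option maxHeartbeats 1000000
universe u

open CategoryTheory CategoryTheory.Limits AlgebraicGeometry TopologicalSpace Opposite
open DevissLib CurvLib CurveVBLib QCohLib

noncomputable section

namespace HiggsLib

variable {X : Scheme.{u}} {k : Type u} [Field k] [X.Over (Spec (CommRingCat.of k))]
  [IsIntegral X] [IsProper (X ↘ Spec (CommRingCat.of k))] [Smooth (X ↘ Spec (CommRingCat.of k))]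
  (hdim : topologicalKrullDim X = 1)

theorem dg_eq_of_iso {A B : X.Modules} (e : A ≅ B) : dg k A = dg k B := by
  have h : genRank A = genRank B := by
    letI : Field (X.presheaf.stalk (genericPoint X)) := (inferInstance : Field X.functionField)
    exact ((St (genericPoint X)).mapIso e).toLinearEquiv.finrank_eq
  rw [dg, dg, h, CurvLib.euler_congr (k := k) e]

include hdim

/-- An invariant submodule of the same slope is semistable. -/
theorem sub_semistable {L : X.Modules} {r n : ℕ} (hr : 0 < r) {E G : X.Modules}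
    (hE : FlatMod.IsFinLocFreeOfRank r E) (hG : FlatMod.IsFinLocFreeOfRank n G)
    {φ : E ⟶ (R L).obj E} (hss : SS k φ r) (j : G ⟶ E) [Mono j] (χ : G ⟶ (R L).obj G)
    (hχ : χ ≫ (R L).map j = j ≫ φ) (hd : dg k G * (r : ℤ) = dg k E * (n : ℤ)) : SS k χ n := by
  intro H m a ha hm hH hi
  haveI := ha
  have h := hss.le hdim hE (a ≫ j) (CurvLib.isCoh_of_locFree hH) (inv_comp hχ hi)
  rw [genRank_eq hH] at h
  rw [deg_eq_dg hH, deg_eq_dg hG]
  refine le_of_mul_le_mul_right ?_ (show (0 : ℤ) < (r : ℤ) by exact_mod_cast hr)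
  have h1 := mul_le_mul_of_nonneg_right h (Int.natCast_nonneg n)
  have h2 : dg k G * (m : ℤ) * r = dg k E * (n : ℤ) * m := by rw [mul_right_comm, hd]
  linarith

/-- Opposite chains in semistable pairs of the same degree consist of pieces of the same slope. -/
theorem chain_slopes {L : X.Modules} {r : ℕ} {d : ℤ} {E F : X.Modules}
    (hE : FlatMod.IsFinLocFreeOfRank r E) (hF : FlatMod.IsFinLocFreeOfRank r F)
    {φE : E ⟶ (R L).obj E} {φF : F ⟶ (R L).obj F} (hEd : dg k E = d) (hFd : dg k F = d)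
    (hEss : SS k φE r) (hFss : SS k φF r) (n : ℕ)
    (Es : ℕ → X.Modules) (rE : ℕ → ℕ) (hEs : ∀ i, FlatMod.IsFinLocFreeOfRank (rE i) (Es i))
    (ιE : ∀ i, Es i ⟶ E) (hιE : ∀ i, Mono (ιE i)) (hiE : ∀ i, Inv φE (ιE i))
    (a : ∀ i, Es i ⟶ Es (i + 1)) (ha : ∀ i, a i ≫ ιE (i + 1) = ιE i) (hE0 : IsZero (Es 0))
    (Fs : ℕ → X.Modules) (rF : ℕ → ℕ) (hFs : ∀ i, FlatMod.IsFinLocFreeOfRank (rF i) (Fs i))
    (ιF : ∀ i, Fs i ⟶ F) (hιF : ∀ i, Mono (ιF i)) (hiF : ∀ i, Inv φF (ιF i))
    (b : ∀ i, Fs (i + 1) ⟶ Fs i) (hb : ∀ i, b i ≫ ιF i = ιF (i + 1)) (hF0 : IsIso (ιF 0))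
    (hrk : ∀ i, i ≤ n → rE i + rF i = r)
    (hopp : ∀ i, i < n → Nonempty (cokernel (a i) ≅ cokernel (b i))) :
    ∀ i, i ≤ n → dg k (Es i) * (r : ℤ) = d * (rE i : ℤ) ∧ dg k (Fs i) * (r : ℤ) = d * (rF i : ℤ) := by
  haveI := CurvLib.isNoetherian k (X := X)
  have hsum : ∀ i, i ≤ n → dg k (Es i) + dg k (Fs i) = d := by
    intro i
    induction i with
    | zero =>
      intro _
      rw [dg_of_isZero hE0, zero_add, ← hFd, ← deg_eq_dg (hFs 0), ← deg_eq_dg hF,
        CurvLib.deg_congr (k := k) (asIso (ιF 0))]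
      have h1 := genRank_eq (hEs 0)
      rw [genRank_of_isZero hE0] at h1
      have h2 := hrk 0 (Nat.zero_le n)
      rw [show rF 0 = r by omega]
    | succ i ih =>
      intro hi
      haveI := hιE i
      haveI := hιF (i + 1)
      haveI : Mono (a i) := mono_of_mono_fac (ha i)
      haveI : Mono (b i) := mono_of_mono_fac (hb i)
      obtain ⟨-, -, r1, d1, -⟩ := sub_data (k := k) hdim (hEs (i + 1)) (a i) (CurvLib.isCoh_of_locFree (hEs i))
      obtain ⟨-, -, r2, d2, -⟩ := sub_data (k := k) hdim (hFs i) (b i) (CurvLib.isCoh_of_locFree (hFs (i + 1)))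
      obtain ⟨e⟩ := hopp i (by omega)
      have h3 := ih (by omega)
      rw [dg_eq_of_iso e] at d1
      omega
  intro i hi
  haveI := hιE i
  haveI := hιF i
  have h1 := hEss.le hdim hE (ιE i) (CurvLib.isCoh_of_locFree (hEs i)) (hiE i)
  have h2 := hFss.le hdim hF (ιF i) (CurvLib.isCoh_of_locFree (hFs i)) (hiF i)
  rw [genRank_eq (hEs i), hEd] at h1
  rw [genRank_eq (hFs i), hFd] at h2
  have h3 : dg k (Es i) * (r : ℤ) + dg k (Fs i) * r = d * rE i + d * rF i := by
    rw [← add_mul, hsum i hi, ← mul_add, ← Nat.cast_add, hrk i hi]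
  constructor <;> linarith

end HiggsLib

end
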