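import Groth.Agent.HiggsLib.Slope

/-!
# Endomorphisms commuting with a twisted endomorphism
-/

set_option autoImplicit false
set_option linter.style.haveILetI false
set_option maxHeartbeats 1000000
universe u

open CategoryTheory CategoryTheory.Limits AlgebraicGeometry TopologicalSpace Opposite
open DevissLib CurvLib CurveVBLib QCohLib

noncomputable section

namespace HiggsLib

variable {X : Scheme.{u}} {k : Type u} [Field k] [X.Over (Spec (CommRingCat.of k))]
  [IsIntegral X] [IsProper (X ↘ Spec (CommRingCat.of k))] [Smooth (X ↘ Spec (CommRingCat.of k))]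
  (hdim : topologicalKrullDim X = 1)

include hdim

/-- An invariant submodule of largest slope and, among those, of largest rank. -/
theorem exists_maxInv {L E : X.Modules} (φ : E ⟶ (R L).obj E) {r : ℕ}
    (hE : FlatMod.IsFinLocFreeOfRank r E) (hr : 0 < r) :
    ∃ (E₁ : X.Modules) (i₁ : E₁ ⟶ E), Mono i₁ ∧ Coh.IsCoh E₁ ∧ 0 < genRank E₁ ∧ Inv φ i₁ ∧
      ∀ (G : X.Modules) (j : G ⟶ E), Mono j → Coh.IsCoh G → 0 < genRank G → Inv φ j →
        dg k G * (genRank E₁ : ℤ) ≤ dg k E₁ * (genRank G : ℤ) ∧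
        (dg k G * (genRank E₁ : ℤ) = dg k E₁ * (genRank G : ℤ) → genRank G ≤ genRank E₁) := by
  classical
  let P : ℕ → ℤ → Prop := fun n z =>
    ∃ (G : X.Modules) (j : G ⟶ E), Mono j ∧ Coh.IsCoh G ∧ Inv φ j ∧ genRank G = n ∧ dg k G = z
  have hbd : ∀ n, (∃ z, P n z) → ∃ z, P n z ∧ ∀ z', P n z' → z' ≤ z := fun n hn =>
    Int.exists_greatest_of_bdd ⟨(Module.finrank k (Coh.HH X E 0) : ℤ) +
      r * |Curv2.euler k X (Coh.structureModule X)|, fun z ⟨G, j, hj, hG, _, _, hz⟩ =>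
        hz ▸ dg_le_bound hdim hE j hG⟩ hn
  choose! g hg hg' using hbd
  let S := (Finset.Icc 1 r).filter fun n => ∃ z, P n z
  have hS : S.Nonempty := ⟨r, Finset.mem_filter.mpr ⟨Finset.mem_Icc.mpr ⟨hr, le_rfl⟩,
    dg k E, E, 𝟙 E, inferInstance, CurvLib.isCoh_of_locFree hE, inv_id φ, genRank_eq hE, rfl⟩⟩
  obtain ⟨n, hn, hmax⟩ := S.exists_max_image (fun n => toLex ((g n : ℚ) / n, n)) hS
  obtain ⟨hn1, hnP⟩ := Finset.mem_filter.mp hn
  obtain ⟨E₁, i₁, hi₁, hE₁, hinv, hrk, hd⟩ := hg n hnP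
  have hn0 : 0 < n := (Finset.mem_Icc.mp hn1).1
  refine ⟨E₁, i₁, hi₁, hE₁, hrk ▸ hn0, hinv, fun G j hj hG hpos hji => ?_⟩
  obtain ⟨-, -, hrG, -, -⟩ := sub_data (k := k) hdim hE j hG
  have hm : genRank G ∈ S := Finset.mem_filter.mpr ⟨Finset.mem_Icc.mpr ⟨hpos, by omega⟩,
    dg k G, G, j, hj, hG, hji, rfl, rfl⟩
  have h1 : dg k G ≤ g (genRank G) := hg' _ ⟨_, G, j, hj, hG, hji, rfl, rfl⟩ _ ⟨G, j, hj, hG, hji, rfl, rfl⟩
  have hq : (0 : ℚ) < (genRank G : ℚ) := by exact_mod_cast hpos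
  have hnq : (0 : ℚ) < (n : ℚ) := by exact_mod_cast hn0
  have h1' : (dg k G : ℚ) ≤ (g (genRank G) : ℚ) := by exact_mod_cast h1
  rw [hrk, hd]
  have hmax' := hmax _ hm
  rw [Prod.Lex.toLex_le_toLex] at hmax'
  rcases hmax' with hlt | ⟨heq, hle⟩
  · have hlt' : (g (genRank G) : ℚ) / genRank G < (g n : ℚ) / n := hlt
    rw [div_lt_div_iff₀ hq hnq] at hlt'
    have h3 : dg k G * (n : ℤ) < g n * (genRank G : ℤ) := by
      have : (dg k G : ℚ) * n < (g n : ℚ) * genRank G := by nlinarith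
      exact_mod_cast this
    exact ⟨h3.le, fun he => absurd he h3.ne⟩
  · have heq' : (g (genRank G) : ℚ) / genRank G = (g n : ℚ) / n := heq
    rw [div_eq_div_iff hq.ne' hnq.ne'] at heq'
    refine ⟨?_, fun _ => hle⟩
    have : (dg k G : ℚ) * n ≤ (g n : ℚ) * genRank G := by nlinarith
    exact_mod_cast this

/-- Commuting endomorphisms preserve the maximal invariant submodule. -/
theorem ss_of_commuting {L : X.Modules} (hL : PicF.IsInvertible L) {r : ℕ} (hr : 0 < r) {E : X.Modules}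
    (hE : FlatMod.IsFinLocFreeOfRank r E) {φ : E ⟶ (R L).obj E} (ψ : E ⟶ E)
    (hcomm : ψ ≫ φ = φ ≫ (R L).map ψ)
    (h : ∀ (G : X.Modules) (n : ℕ) (j : G ⟶ E), Mono j → 0 < n → FlatMod.IsFinLocFreeOfRank n G → Inv φ j →
      (∃ ψ' : G ⟶ G, ψ' ≫ j = j ≫ ψ) → Curv2.deg k X G n * (r : ℤ) ≤ Curv2.deg k X E r * (n : ℤ)) :
    SS k φ r := by
  haveI := CurvLib.isNoetherian k (X := X)
  obtain ⟨E₁, i₁, hi₁, hE₁, hpos, ⟨χ, hχ⟩, hmax⟩ := exists_maxInv (k := k) hdim φ hE hr
  haveI := hi₁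
  obtain ⟨hE₁r, hC, -, -, -⟩ := sub_data (k := k) hdim hE i₁ hE₁
  obtain ⟨φ', hφ'⟩ := exists_quotient hL φ i₁ ⟨χ, hχ⟩
  let c : E₁ ⟶ cokernel i₁ := i₁ ≫ ψ ≫ cokernel.π i₁
  have hc : c = 0 := by
    have hcφ : c ≫ φ' = χ ≫ (R L).map c := by
      simp only [c, Functor.map_comp, Category.assoc]
      rw [hφ', ← Category.assoc ψ, hcomm, Category.assoc, ← Category.assoc i₁, ← hχ, Category.assoc]
    by_contra hne
    obtain ⟨hK, hI, hrk, hdg⟩ := ker_im_data (k := k) hE₁ hC c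
    have hK1 : dg k (kernel c) * (genRank E₁ : ℤ) ≤ dg k E₁ * (genRank (kernel c) : ℤ) := by
      rcases Nat.eq_zero_or_pos (genRank (kernel c)) with h0 | hp
      · obtain ⟨-, -, -, -, hz⟩ := sub_data (k := k) hdim hE₁r (kernel.ι c) hK
        rw [dg_of_isZero (hz h0), h0]; simp
      · exact (hmax _ (kernel.ι c ≫ i₁) inferInstance hK hp
          (inv_comp hχ (inv_kernel hL χ φ' c hcφ))).1
    have hinv := inv_preimage hL φ i₁ φ' hφ' (Abelian.image.ι c) (inv_image hL χ φ' c hcφ)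
    obtain ⟨hJ, hrJ, hdJ⟩ := epi_data (k := k) (CurvLib.isCoh_of_locFree hE)
      (QCohLib.isCoh_cokernel (Abelian.image.ι c) hI.1 hC) (cokernel.π i₁ ≫ cokernel.π (Abelian.image.ι c))
    let S₁ : ShortComplex X.Modules := ShortComplex.mk i₁ (cokernel.π i₁) (cokernel.condition i₁)
    have hS₁ : S₁.ShortExact :=
      { exact := ShortComplex.exact_of_g_is_cokernel _ (cokernelIsCokernel i₁)
        mono_f := inferInstanceAs (Mono i₁)
        epi_g := inferInstanceAs (Epi (cokernel.π i₁)) }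
    have hEc := CurvLib.isCoh_of_locFree hE
    have r2 : genRank E = genRank E₁ + genRank (cokernel i₁) := genRank_add (S := S₁) hS₁ hE₁ hEc hC
    have d2 : dg k E = dg k E₁ + dg k (cokernel i₁) := dg_add (k := k) (S := S₁) hS₁ hE₁ hEc hC
    have hQI := QCohLib.isCoh_cokernel (Abelian.image.ι c) hI.1 hC
    let S₃ : ShortComplex X.Modules :=
      ShortComplex.mk (Abelian.image.ι c) (cokernel.π (Abelian.image.ι c)) (cokernel.condition _)
    have hS₃ : S₃.ShortExact :=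
      { exact := ShortComplex.exact_of_g_is_cokernel _ (cokernelIsCokernel (Abelian.image.ι c))
        mono_f := inferInstanceAs (Mono (Abelian.image.ι c))
        epi_g := inferInstanceAs (Epi (cokernel.π (Abelian.image.ι c))) }
    have r3 : genRank (cokernel i₁) = genRank (Abelian.image c) + genRank (cokernel (Abelian.image.ι c)) :=
      genRank_add (S := S₃) hS₃ hI hC hQI
    have d3 : dg k (cokernel i₁) = dg k (Abelian.image c) + dg k (cokernel (Abelian.image.ι c)) :=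
      dg_add (k := k) (S := S₃) hS₃ hI hC hQI
    obtain ⟨h1, h2⟩ := hmax _ _ inferInstance hJ (by omega) hinv
    rw [show genRank (kernel (cokernel.π i₁ ≫ cokernel.π (Abelian.image.ι c))) =
        genRank E₁ + genRank (Abelian.image c) by omega,
      show dg k (kernel (cokernel.π i₁ ≫ cokernel.π (Abelian.image.ι c))) =
        dg k E₁ + dg k (Abelian.image c) by omega] at h1 h2
    push_cast at h1 h2
    have hI1 : dg k E₁ * (genRank (Abelian.image c) : ℤ) ≤ dg k (Abelian.image c) * (genRank E₁ : ℤ) := by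
      rw [hdg, hrk] at hK1 ⊢
      push_cast at hK1 ⊢
      linarith
    rcases Nat.eq_zero_or_pos (genRank (Abelian.image c)) with h0 | hp
    · obtain ⟨hnn, hz⟩ := dg_nonneg_of_rank_zero (k := k) hdim hI h0
      rw [h0, Nat.cast_zero, add_zero] at h1
      have h4 : dg k (Abelian.image c) * (genRank E₁ : ℤ) ≤ 0 := by linarith
      refine hne ?_
      rw [← Abelian.image.fac c, (hz (le_antisymm (nonpos_of_mul_nonpos_left h4 (by exact_mod_cast hpos)) hnn)).eq_of_src
        (Abelian.image.ι c) 0, comp_zero]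
    · have := h2 (by linarith)
      omega
  let S : ShortComplex X.Modules := ShortComplex.mk i₁ (cokernel.π i₁) (cokernel.condition i₁)
  have hS : S.ShortExact :=
    { exact := ShortComplex.exact_of_g_is_cokernel _ (cokernelIsCokernel i₁)
      mono_f := inferInstanceAs (Mono i₁)
      epi_g := inferInstanceAs (Epi (cokernel.π i₁)) }
  haveI := hS.mono_f
  have h0 : (i₁ ≫ ψ) ≫ S.g = 0 := by rw [Category.assoc]; exact hc
  have hle := h E₁ _ i₁ hi₁ hpos hE₁r ⟨χ, hχ⟩ ⟨hS.exact.lift (i₁ ≫ ψ) h0, hS.exact.lift_f _ h0⟩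
  rw [deg_eq_dg hE₁r] at hle
  intro G n j hj hn hG hji
  have h1 := (hmax G j hj (CurvLib.isCoh_of_locFree hG) (by rw [genRank_eq hG]; exact hn) hji).1
  rw [genRank_eq hG] at h1
  rw [deg_eq_dg hG]
  refine le_of_mul_le_mul_right ?_ (show (0 : ℤ) < (genRank E₁ : ℤ) by exact_mod_cast hpos)
  have h2 := mul_le_mul_of_nonneg_right h1 (Int.natCast_nonneg r)
  have h3 := mul_le_mul_of_nonneg_right hle (Int.natCast_nonneg n)
  linarith

end HiggsLib

end
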