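import Groth.Agent.HiggsLib.Slope
import Groth.Agent.HomSplitLib.Split
import Groth.Agent.GenusOneSSLib.RankTwo

/-!
# Rank-two pairs in genus one
-/

set_option autoImplicit false
set_option linter.style.haveILetI false
set_option maxHeartbeats 1000000
universe u

open CategoryTheory CategoryTheory.Limits AlgebraicGeometry TopologicalSpace Opposite
open DevissLib CurvLib CurveVBLib QCohLib

noncomputable section

namespace HiggsLib

variable {X : Scheme.{u}}

theorem cancel_line {Q : X.Modules} (hQ : PicF.IsInvertible Q) (N : X.Modules)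
    (e : Q ≅ CohB1.tensorMod Q N) : Nonempty (N ≅ Coh.structureModule X) := by
  obtain ⟨eQ⟩ := MiscFlat6.nonempty_dualIso hQ
  let e' : CohB1.tensorMod (MiscFlat6.dual Q) Q ≅ Coh.structureModule X := HilbPolyLib.swapIso _ _ ≪≫ eQ
  exact ⟨(HilbPolyLib.unitLeft N).symm ≪≫ HilbPolyLib.congrLeft e'.symm N ≪≫
    HilbPolyLib.assocIso (MiscFlat6.dual Q) Q N ≪≫ HilbPolyLib.congrRight (MiscFlat6.dual Q) e.symm ≪≫ e'⟩

variable {k : Type u} [Field k] [X.Over (Spec (CommRingCat.of k))]
  [IsIntegral X] [IsProper (X ↘ Spec (CommRingCat.of k))] [Smooth (X ↘ Spec (CommRingCat.of k))]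
  [GeometricallyConnected (X ↘ Spec (CommRingCat.of k))]
  (hdim : topologicalKrullDim X = 1)

include hdim

/-- In genus one a stable rank two pair twisted by `L` with `L ⊗ L` nontrivial of degree zero is stable. -/
theorem stable_rank_two (hg : Curv2.genus k X = 1) {L : X.Modules} (hL : PicF.IsInvertible L)
    (hL0 : Curv2.deg k X L 1 = 0) (hL2 : ¬ Nonempty (CohB1.tensorMod L L ≅ Coh.structureModule X))
    {E : X.Modules} (hE : FlatMod.IsFinLocFreeOfRank 2 E) {φ : E ⟶ (R L).obj E}
    (hst : ∀ (G : X.Modules) (n : ℕ) (j : G ⟶ E), Mono j → 0 < n → n < 2 → FlatMod.IsFinLocFreeOfRank n G →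
      Inv φ j → Curv2.deg k X G n * (2 : ℤ) < Curv2.deg k X E 2 * (n : ℤ)) :
    ∀ (G : X.Modules) (n : ℕ) (j : G ⟶ E), Mono j → 0 < n → n < 2 → FlatMod.IsFinLocFreeOfRank n G →
      Curv2.deg k X G n * (2 : ℤ) < Curv2.deg k X E 2 * (n : ℤ) := by
  haveI := CurvLib.isNoetherian k (X := X)
  have hEc := CurvLib.isCoh_of_locFree hE
  have hss : SS k φ 2 := fun G n j hj hn hG hi => by
    haveI := hj
    rcases lt_or_ge n 2 with h | h
    · exact (hst G n j hj hn h hG hi).le
    · have hle := genRank_mono j (CurvLib.isCoh_of_locFree hG) hEc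
      rw [genRank_eq hG, genRank_eq hE] at hle
      obtain rfl : n = 2 := by omega
      rw [deg_eq_dg hG, deg_eq_dg hE]
      exact mul_le_mul_of_nonneg_right (dg_le_of_mono (k := k) hdim (CurvLib.isCoh_of_locFree hG)
        (genRank_eq hG) hE j).1 (by norm_num)
  have hsemi := semistable_of_deg_zero hdim hL hL0 two_pos hE hss
  -- lines of maximal degree
  have line : ∀ (A : X.Modules) (i : A ⟶ E), Mono i → FlatMod.IsFinLocFreeOfRank 1 A → dg k A * 2 = dg k E →
      FlatMod.IsFinLocFreeOfRank 1 (cokernel i) ∧ dg k (cokernel i) = dg k A ∧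
        Nonempty (A ≅ CohB1.tensorMod (cokernel i) L) := by
    intro A i hi hA hd
    haveI := hi
    have hAc := CurvLib.isCoh_of_locFree hA
    obtain ⟨-, hC, hrk, hdg, -⟩ := sub_data (k := k) hdim hE i hAc
    rw [genRank_eq hA] at hrk
    have htf := torsionFree_of_no_rank_zero hC fun T a ha hT hT0 => by
      obtain ⟨J, b, hb, hJ, hrJ, hdJ⟩ := preimage_data (k := k) hE i hAc a hT
      rw [genRank_eq hA, hT0, add_zero] at hrJ
      obtain ⟨hJr, -, -, -, -⟩ := sub_data (k := k) hdim hE b hJ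
      rw [hrJ] at hJr
      have h := hsemi J 1 b hb one_pos hJr
      rw [deg_eq_dg hJr, deg_eq_dg hE, hdJ] at h
      obtain ⟨hnn, hz⟩ := dg_nonneg_of_rank_zero (k := k) hdim hT hT0
      exact hz (by push_cast at h; omega)
    have hQ := rank_genRank ((Groth.Agent.S1688.result X (fun x => regular_stalk (k := k) x) hdim.le _ hC).mp htf)
    rw [show genRank (cokernel i) = 1 by omega] at hQ
    have hQd : dg k (cokernel i) = dg k A := by omega
    have hQ' := locFree_R hL hdim hQ
    have hd' : dg k ((R L).obj (cokernel i)) = dg k A := by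
      rw [dg_R (k := k) hL hdim hQ, hL0, mul_zero, add_zero, hQd]
    let c : A ⟶ (R L).obj (cokernel i) := i ≫ φ ≫ (R L).map (cokernel.π i)
    have hc : c ≠ 0 := fun hc => by
      obtain ⟨χ, hχ⟩ := exists_lift hL
        (S := ShortComplex.mk i (cokernel.π i) (cokernel.condition i))
        { exact := ShortComplex.exact_of_g_is_cokernel _ (cokernelIsCokernel i)
          mono_f := inferInstanceAs (Mono i)
          epi_g := inferInstanceAs (Epi (cokernel.π i)) }
        (i ≫ φ) (by rw [Category.assoc]; exact hc)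
      have h := hst A 1 i hi one_pos one_lt_two hA ⟨χ, hχ⟩
      rw [deg_eq_dg hA, deg_eq_dg hE] at h
      push_cast at h
      omega
    haveI := mono_of_line (k := k) hdim hA hQ' hc
    haveI : IsIso c := (dg_le_of_mono (k := k) hdim hAc (genRank_eq hA) hQ' c).2 hd'.symm
    exact ⟨hQ, hQd, ⟨@asIso _ _ A ((R L).obj (cokernel i)) c this⟩⟩
  intro G n j hj hn hn2 hG
  obtain rfl : n = 1 := by omega
  haveI := hj
  by_contra hcon
  have h := hsemi G 1 j hj hn hG
  rw [deg_eq_dg hG, deg_eq_dg hE] at h hcon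
  push_cast at h hcon
  obtain ⟨hQ, hQd, ⟨eG⟩⟩ := line G j hj hG (by omega)
  let S : ShortComplex X.Modules := ShortComplex.mk j (cokernel.π j) (cokernel.condition j)
  have hS : S.ShortExact :=
    { exact := ShortComplex.exact_of_g_is_cokernel _ (cokernelIsCokernel j)
      mono_f := inferInstanceAs (Mono j)
      epi_g := inferInstanceAs (Epi (cokernel.π j)) }
  have hL1 : ¬ Nonempty (L ≅ Coh.structureModule X) := fun ⟨e⟩ =>
    hL2 ⟨HilbPolyLib.congrLeft e L ≪≫ HilbPolyLib.unitLeft L ≪≫ e⟩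
  have hzero : ∀ g : G ⟶ cokernel j, g = 0 := fun g => by
    by_contra hg'
    haveI := mono_of_line (k := k) hdim hG hQ hg'
    haveI := (dg_le_of_mono (k := k) hdim (CurvLib.isCoh_of_locFree hG) (genRank_eq hG) hQ g).2 hQd.symm
    exact hL1 (cancel_line (GrassSch.isInvertible_of_rank_one hQ) L ((asIso g).symm ≪≫ eG))
  haveI := HomSplitLib.isSplitEpi_of_hom_eq_zero (k := k) hdim hg hS hG hQ hzero
  let σ := ShortComplex.Splitting.ofExactOfSection S hS.exact (section_ S.g) (IsSplitEpi.id S.g) hS.mono_f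
  let s : cokernel j ⟶ E := σ.s
  have hsg : s ≫ cokernel.π j = 𝟙 _ := σ.s_g
  haveI : IsSplitMono s := IsSplitMono.mk' ⟨cokernel.π j, hsg⟩
  obtain ⟨-, -, ⟨eQ⟩⟩ := line (cokernel j) s inferInstance hQ (by omega)
  let S' : ShortComplex X.Modules := ShortComplex.mk σ.s σ.r σ.s_r
  let σ' : S'.Splitting :=
    { r := S.g, s := S.f, f_r := σ.s_g, s_g := σ.f_r, id := (add_comm _ _).trans σ.id }
  let eC : cokernel s ≅ G :=
    (colimit.isColimit (parallelPair s 0)).coconePointUniqueUpToIso σ'.shortExact.gIsCokernel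
  refine hL2 (cancel_line (GrassSch.isInvertible_of_rank_one hQ) (CohB1.tensorMod L L) ?_)
  exact eQ ≪≫ HilbPolyLib.congrLeft (eC ≪≫ eG) L ≪≫ HilbPolyLib.assocIso _ L L

end HiggsLib

end
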