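import Groth.Agent.HiggsLib.Basic

/-!
# Semistable twisted endomorphisms
-/

set_option autoImplicit false
set_option linter.style.haveILetI false
set_option maxHeartbeats 1000000
universe u

open CategoryTheory CategoryTheory.Limits AlgebraicGeometry TopologicalSpace Opposite
open DevissLib CurvLib CurveVBLib QCohLib

noncomputable section

namespace HiggsLib

variable {X : Scheme.{u}} (k : Type u) [Field k] [X.Over (Spec (CommRingCat.of k))]

/-- Semistability for a family of twisted endomorphisms. -/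
def SSFam {ι : Type} {L : ι → X.Modules} {E : X.Modules} (φ : ∀ a, E ⟶ (R (L a)).obj E) (r : ℕ) : Prop :=
  ∀ (G : X.Modules) (n : ℕ) (j : G ⟶ E), Mono j → 0 < n → FlatMod.IsFinLocFreeOfRank n G →
    (∀ a, Inv (φ a) j) → Curv2.deg k X G n * (r : ℤ) ≤ Curv2.deg k X E r * (n : ℤ)

/-- Semistability of one twisted endomorphism. -/
def SS {L E : X.Modules} (φ : E ⟶ (R L).obj E) (r : ℕ) : Prop :=
  ∀ (G : X.Modules) (n : ℕ) (j : G ⟶ E), Mono j → 0 < n → FlatMod.IsFinLocFreeOfRank n G →
    Inv φ j → Curv2.deg k X G n * (r : ℤ) ≤ Curv2.deg k X E r * (n : ℤ)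

theorem ss_iff {L E : X.Modules} (φ : E ⟶ (R L).obj E) (r : ℕ) :
    SS k φ r ↔ SSFam k (ι := Unit) (L := fun _ => L) (fun _ => φ) r :=
  ⟨fun h G n j hj hn hG hi => h G n j hj hn hG (hi ()), fun h G n j hj hn hG hi => h G n j hj hn hG fun _ => hi⟩

section Torsion

variable [IsNoetherian X] [IsIntegral X]

theorem app_mem_torSub {C P : X.Modules} (hP : Coh.IsCoh P) (h0 : genRank P = 0) (f : P ⟶ C) (U : X.Opens)
    (s : Γ(P, U)) : (torSub C).mem U (f.app U s) := fun h => by
  haveI : Subsingleton (P.presheaf.stalk (genericPoint X)) := by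
    haveI := DevissLib.isNoetherian_stalk hP (genericPoint X)
    letI : Field (X.presheaf.stalk (genericPoint X)) := (inferInstance : Field X.functionField)
    haveI : Module.Finite (X.presheaf.stalk (genericPoint X)) (P.presheaf.stalk (genericPoint X)) :=
      inferInstanceAs (Module.Finite _ ((St (genericPoint X)).obj P))
    exact (Module.finrank_zero_iff (R := X.presheaf.stalk (genericPoint X))).mp h0
  refine (DerSch.stalkFunctor_map_germ _ f U h s).symm.trans ?_
  exact (congrArg _ (Subsingleton.elim (α := P.presheaf.stalk (genericPoint X)) _ 0)).trans (map_zero _)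

/-- Maps from rank zero sheaves factor through the torsion. -/
theorem comp_eq_zero_of_torSub {C P W : X.Modules} (hP : Coh.IsCoh P) (h0 : genRank P = 0) (f : P ⟶ C) (g : C ⟶ W)
    (hg : (torSub C).ι ≫ g = 0) : f ≫ g = 0 := by
  apply Scheme.Modules.hom_ext
  intro U
  ext s
  change g.app U (f.app U s) = 0
  rw [← LocSub.ι_lift (torSub C) _ (app_mem_torSub hP h0 f U s)]
  change ((torSub C).ι ≫ g).app U _ = 0
  rw [hg]
  rfl

theorem isZero_of_torSub_zero {C H : X.Modules} (a : H ⟶ C) [Mono a] (hH : Coh.IsCoh H) (h0 : genRank H = 0)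
    (hz : IsZero (torSub C).toModules) : IsZero H := by
  have h : a ≫ 𝟙 C = 0 := comp_eq_zero_of_torSub hH h0 a (𝟙 C) (hz.eq_of_src _ _)
  rw [Category.comp_id] at h
  exact (IsZero.iff_id_eq_zero _).mpr (by rw [← cancel_mono a, Category.id_comp, h, comp_zero])

include k in
theorem isZero_of_torSub_quotient [IsProper (X ↘ Spec (CommRingCat.of k))] {C H : X.Modules} (hC : Coh.IsCoh C) (j : H ⟶ cokernel (torSub C).ι) [Mono j]
    (hH : Coh.IsCoh H) (h0 : genRank H = 0) : IsZero H := by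
  have hT := isCoh_torSub hC
  have hT0 := genRank_torSub C
  let t := (torSub C).ι
  have hQ := QCohLib.isCoh_cokernel t hT.1 hC
  let S : ShortComplex X.Modules := ShortComplex.mk t (cokernel.π t) (cokernel.condition t)
  have hS : S.ShortExact :=
    { exact := ShortComplex.exact_of_g_is_cokernel _ (cokernelIsCokernel t)
      mono_f := inferInstanceAs (Mono t)
      epi_g := inferInstanceAs (Epi (cokernel.π t)) }
  have r2 : genRank C = genRank (torSub C).toModules + genRank (cokernel t) :=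
    genRank_add (S := S) hS hT hC hQ
  obtain ⟨hP, r3, -⟩ := epi_data (k := k) hC (QCohLib.isCoh_cokernel j hH.1 hQ) (cokernel.π t ≫ cokernel.π j)
  let S₂ : ShortComplex X.Modules := ShortComplex.mk j (cokernel.π j) (cokernel.condition j)
  have hS₂ : S₂.ShortExact :=
    { exact := ShortComplex.exact_of_g_is_cokernel _ (cokernelIsCokernel j)
      mono_f := inferInstanceAs (Mono j)
      epi_g := inferInstanceAs (Epi (cokernel.π j)) }
  have r4 : genRank (cokernel t) = genRank H + genRank (cokernel j) :=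
    genRank_add (S := S₂) hS₂ hH hQ (QCohLib.isCoh_cokernel j hH.1 hQ)
  have hP0 : genRank (kernel (cokernel.π t ≫ cokernel.π j)) = 0 := by omega
  have hle : kernel.ι (cokernel.π t ≫ cokernel.π j) ≫ cokernel.π t = 0 :=
    comp_eq_zero_of_torSub hP hP0 _ _ (cokernel.condition t)
  obtain ⟨A, π, hπ, x, hx⟩ : ∃ (A : X.Modules) (π : A ⟶ H) (_ : Epi π) (x : A ⟶ C), x ≫ cokernel.π t = π ≫ j := by
    exact ⟨pullback j (cokernel.π t), pullback.fst _ _, inferInstance, pullback.snd _ _, pullback.condition.symm⟩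
  have hx2 : x ≫ cokernel.π t ≫ cokernel.π j = 0 := by
    rw [← Category.assoc, hx, Category.assoc, cokernel.condition, comp_zero]
  have hj0 : j = 0 := by
    rw [← cancel_epi π, comp_zero, ← hx, ← kernel.lift_ι _ x hx2, Category.assoc, hle, comp_zero]
  exact (IsZero.iff_id_eq_zero _).mpr (by rw [← cancel_mono j, Category.id_comp, hj0, comp_zero])

end Torsion

variable {k}
variable [IsIntegral X] [IsProper (X ↘ Spec (CommRingCat.of k))] [Smooth (X ↘ Spec (CommRingCat.of k))]
  (hdim : topologicalKrullDim X = 1)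

include hdim

theorem SSFam.le {ι : Type} {L : ι → X.Modules} {E : X.Modules} {φ : ∀ a, E ⟶ (R (L a)).obj E} {r : ℕ}
    (h : SSFam k φ r) (hE : FlatMod.IsFinLocFreeOfRank r E) {G : X.Modules} (j : G ⟶ E) [Mono j]
    (hG : Coh.IsCoh G) (hi : ∀ a, Inv (φ a) j) : dg k G * (r : ℤ) ≤ dg k E * (genRank G : ℤ) := by
  obtain ⟨hGr, -, -, -, hz⟩ := sub_data (k := k) hdim hE j hG
  rcases Nat.eq_zero_or_pos (genRank G) with h0 | hpos
  · rw [dg_of_isZero (hz h0), h0]; simp
  · have := h G (genRank G) j inferInstance hpos hGr hi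
    rwa [deg_eq_dg hGr, deg_eq_dg hE] at this

theorem SS.le {L E : X.Modules} {φ : E ⟶ (R L).obj E} {r : ℕ}
    (h : SS k φ r) (hE : FlatMod.IsFinLocFreeOfRank r E) {G : X.Modules} (j : G ⟶ E) [Mono j]
    (hG : Coh.IsCoh G) (hi : Inv φ j) : dg k G * (r : ℤ) ≤ dg k E * (genRank G : ℤ) :=
  SSFam.le (ι := Unit) hdim ((ss_iff k φ r).1 h) hE j hG fun _ => hi

/-- The slope inequality for nonzero maps of semistable tuples. -/
theorem slope_le {ι : Type} {L : ι → X.Modules} (hL : ∀ a, PicF.IsInvertible (L a)) {r s : ℕ} {E F : X.Modules}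
    (hE : FlatMod.IsFinLocFreeOfRank r E) (hF : FlatMod.IsFinLocFreeOfRank s F)
    {φ : ∀ a, E ⟶ (R (L a)).obj E} {ψ : ∀ a, F ⟶ (R (L a)).obj F} (hEss : SSFam k φ r) (hFss : SSFam k ψ s)
    (f : E ⟶ F) (hf : ∀ a, f ≫ ψ a = φ a ≫ (R (L a)).map f) (hne : f ≠ 0) :
    dg k E * (s : ℤ) ≤ dg k F * (r : ℤ) := by
  haveI := CurvLib.isNoetherian k (X := X)
  obtain ⟨hK, hI, hrk, hdg⟩ := ker_im_data (k := k) (CurvLib.isCoh_of_locFree hE) (CurvLib.isCoh_of_locFree hF) f
  obtain ⟨-, -, -, -, hz⟩ := sub_data (k := k) hdim hF (Abelian.image.ι f) hI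
  have hpos : 0 < genRank (Abelian.image f) := Nat.pos_of_ne_zero fun h0 => hne (by
    rw [← Abelian.image.fac f, (hz h0).eq_of_src (Abelian.image.ι f) 0, comp_zero])
  have h1 := hEss.le hdim hE (kernel.ι f) hK fun a => inv_kernel (hL a) (φ a) (ψ a) f (hf a)
  have h2 := hFss.le hdim hF (Abelian.image.ι f) hI fun a => inv_image (hL a) (φ a) (ψ a) f (hf a)
  rw [genRank_eq hE] at hrk
  refine le_of_mul_le_mul_right ?_ (show (0 : ℤ) < (genRank (Abelian.image f) : ℤ) by exact_mod_cast hpos)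
  have h3 := mul_le_mul_of_nonneg_right h2 (Int.natCast_nonneg r)
  have h1' : dg k E * (genRank (Abelian.image f) : ℤ) ≤ dg k (Abelian.image f) * (r : ℤ) := by
    rw [hdg] at h1 ⊢
    rw [hrk] at h1 ⊢
    push_cast at h1 ⊢
    linarith
  have h4 := mul_le_mul_of_nonneg_right h1' (Int.natCast_nonneg s)
  linarith

/-- A semistable pair with nonzero map is twisted by a module of nonnegative degree. -/
theorem deg_nonneg {L : X.Modules} (hL : PicF.IsInvertible L) {r : ℕ} (hr : 0 < r) {E : X.Modules}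
    (hE : FlatMod.IsFinLocFreeOfRank r E) {φ : E ⟶ (R L).obj E} (hss : SS k φ r) (hφ : φ ≠ 0) :
    0 ≤ Curv2.deg k X L 1 := by
  haveI := CurvLib.isNoetherian k (X := X)
  haveI := isEquivalence_R hL
  have hE' := locFree_R hL hdim hE
  obtain ⟨hK, hI, hrk, hdg⟩ := ker_im_data (k := k) (CurvLib.isCoh_of_locFree hE) (CurvLib.isCoh_of_locFree hE') φ
  obtain ⟨-, -, -, -, hz⟩ := sub_data (k := k) hdim hE' (Abelian.image.ι φ) hI
  have hpos : 0 < genRank (Abelian.image φ) := Nat.pos_of_ne_zero fun h0 => hφ (by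
    rw [← Abelian.image.fac φ, (hz h0).eq_of_src (Abelian.image.ι φ) 0, comp_zero])
  obtain ⟨G, j, u, hj, hGr, hju, hGd⟩ := untwist (k := k) hL hdim hE (Abelian.image.ι φ) hI
  have hinv : Inv φ j := ⟨j ≫ Abelian.factorThruImage φ ≫ u.inv, by
    rw [hju, Category.assoc, Category.assoc, u.inv_hom_id_assoc, Abelian.image.fac]⟩
  have hK' : Inv φ (kernel.ι φ) := ⟨0, by rw [zero_comp, kernel.condition]⟩
  have h1 := hss.le hdim hE (kernel.ι φ) hK hK'
  have h2 := hss.le hdim hE j (CurvLib.isCoh_of_locFree hGr) hinv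
  rw [genRank_eq hGr] at h2
  rw [genRank_eq hE] at hrk
  have h1' : dg k E * (genRank (Abelian.image φ) : ℤ) ≤ dg k (Abelian.image φ) * (r : ℤ) := by
    rw [hdg] at h1 ⊢
    rw [hrk] at h1 ⊢
    push_cast at h1 ⊢
    linarith
  rw [hGd] at h1'
  have h3 : 0 ≤ ((genRank (Abelian.image φ) : ℤ) * r) * Curv2.deg k X L 1 := by linarith
  exact nonneg_of_mul_nonneg_right h3 (mul_pos (by exact_mod_cast hpos) (by exact_mod_cast hr))

/-- A semistable pair twisted in degree zero is semistable as a bundle. -/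
theorem semistable_of_deg_zero {L : X.Modules} (hL : PicF.IsInvertible L) (hL0 : Curv2.deg k X L 1 = 0) {r : ℕ}
    (hr : 0 < r) {E : X.Modules} (hE : FlatMod.IsFinLocFreeOfRank r E) {φ : E ⟶ (R L).obj E} (hss : SS k φ r) :
    ModFun.IsSlopeSemistable k X E r := by
  haveI := CurvLib.isNoetherian k (X := X)
  haveI := isEquivalence_R hL
  obtain ⟨E₁, r₁, i₁, hi₁, hr₁, hE₁, hmax, -, hquot⟩ := exists_destab (k := k) hdim hE hr
  have hE₁c := CurvLib.isCoh_of_locFree hE₁
  have hEc := CurvLib.isCoh_of_locFree hE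
  obtain ⟨-, hQc, -, -, -⟩ := sub_data (k := k) hdim hE i₁ hE₁c
  have htf := torsionFree_of_no_rank_zero hQc fun T a ha hT hT0 => by
    obtain ⟨J, b, hb, hJ, hrJ, hdJ⟩ := preimage_data (k := k) hE i₁ hE₁c a hT
    rw [genRank_eq hE₁, hT0, add_zero] at hrJ
    have hJr := (sub_data (k := k) hdim hE b hJ).1
    have h := hmax J (genRank J) b hb (by omega) hJr
    rw [deg_eq_dg hJr, deg_eq_dg hE₁, hdJ, hrJ] at h
    have hnn := dg_nonneg_of_rank_zero (k := k) hdim hT hT0
    exact hnn.2 (by linarith [hnn.1, le_of_mul_le_mul_right h (by exact_mod_cast hr₁)])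
  have hQ : FlatMod.IsFinLocFreeOfRank (genRank (cokernel i₁)) (cokernel i₁) :=
    rank_genRank ((Groth.Agent.S1688.result X (fun x => regular_stalk (k := k) x) hdim.le _ hQc).mp htf)
  let c : E₁ ⟶ (R L).obj (cokernel i₁) := i₁ ≫ φ ≫ (R L).map (cokernel.π i₁)
  have hc : c = 0 := by
    by_contra hne
    have hQ' := locFree_R hL hdim hQ
    obtain ⟨-, hI, -, -⟩ := ker_im_data (k := k) hE₁c (CurvLib.isCoh_of_locFree hQ') c
    obtain ⟨-, -, -, -, hz⟩ := sub_data (k := k) hdim hQ' (Abelian.image.ι c) hI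
    have hpos : 0 < genRank (Abelian.image c) := Nat.pos_of_ne_zero fun h0 => hne (by
      rw [← Abelian.image.fac c, (hz h0).eq_of_src (Abelian.image.ι c) 0, comp_zero])
    obtain ⟨H, j, -, hj, hHr, -, hHd⟩ := untwist (k := k) hL hdim hQ (Abelian.image.ι c) hI
    have hss₁ : ModFun.IsSlopeSemistable k X E₁ r₁ := fun F r' a ha hr' hF =>
      hmax F r' (a ≫ i₁) inferInstance hr' hF
    have h1 := image_ge hdim hE₁ hss₁ (CurvLib.isCoh_of_locFree hQ') c
    have h2 := hquot H _ j hj hpos hHr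
    rw [deg_eq_dg hHr, deg_eq_dg hE₁] at h2
    rw [hHd, hL0, mul_zero, add_zero] at h1
    linarith
  have hinv : Inv φ i₁ := by
    obtain ⟨χ, hχ⟩ := exists_lift hL
      (S := ShortComplex.mk i₁ (cokernel.π i₁) (cokernel.condition i₁))
      { exact := ShortComplex.exact_of_g_is_cokernel _ (cokernelIsCokernel i₁)
        mono_f := inferInstanceAs (Mono i₁)
        epi_g := inferInstanceAs (Epi (cokernel.π i₁)) }
      (i₁ ≫ φ) (by rw [Category.assoc]; exact hc)
    exact ⟨χ, hχ⟩
  have hle := hss E₁ r₁ i₁ hi₁ hr₁ hE₁ hinv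
  intro F r' i hi hr' hF
  have h1 := mul_le_mul_of_nonneg_right (hmax F r' i hi hr' hF) (Int.natCast_nonneg r)
  have h2 := mul_le_mul_of_nonneg_right hle (Int.natCast_nonneg r')
  refine le_of_mul_le_mul_right ?_ (show (0 : ℤ) < (r₁ : ℤ) by exact_mod_cast hr₁)
  linarith

/-- The quotient by an invariant submodule of the same slope. -/
theorem quotient_semistable {L : X.Modules} (hL : PicF.IsInvertible L) {r r' : ℕ} {E F : X.Modules}
    (hE : FlatMod.IsFinLocFreeOfRank r E) (hF : FlatMod.IsFinLocFreeOfRank r' F) (hr : 0 < r)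
    {φ : E ⟶ (R L).obj E} (hss : SS k φ r) (i : F ⟶ E) [Mono i] (hi : Inv φ i)
    (hslope : dg k F * (r : ℤ) = dg k E * (r' : ℤ)) :
    r' ≤ r ∧ FlatMod.IsFinLocFreeOfRank (r - r') (cokernel i) ∧
      dg k (cokernel i) * (r : ℤ) = dg k E * ((r - r' : ℕ) : ℤ) ∧
      ∀ φ' : cokernel i ⟶ (R L).obj (cokernel i), cokernel.π i ≫ φ' = φ ≫ (R L).map (cokernel.π i) →
        SS k φ' (r - r') := by
  haveI := CurvLib.isNoetherian k (X := X)
  haveI := isEquivalence_R hL
  have hFc := CurvLib.isCoh_of_locFree hF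
  have hEc := CurvLib.isCoh_of_locFree hE
  obtain ⟨-, hC, hrk, hdg, -⟩ := sub_data (k := k) hdim hE i hFc
  rw [genRank_eq hF] at hrk
  obtain ⟨φ', hφ'⟩ := exists_quotient hL φ i hi
  have key : ∀ (G : X.Modules) (j : G ⟶ cokernel i) (_ : Mono j) (φ'' : cokernel i ⟶ (R L).obj (cokernel i)),
      cokernel.π i ≫ φ'' = φ ≫ (R L).map (cokernel.π i) → Coh.IsCoh G → Inv φ'' j →
      (dg k F + dg k G) * (r : ℤ) ≤ dg k E * ((r' : ℤ) + (genRank G : ℤ)) := fun G j hj φ'' h'' hG hji => by
    haveI := hj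
    have hinv := inv_preimage hL φ i φ'' h'' j hji
    obtain ⟨hJ, hrJ, hdJ⟩ := epi_data (k := k) hEc (QCohLib.isCoh_cokernel j hG.1 hC) (cokernel.π i ≫ cokernel.π j)
    let S₂ : ShortComplex X.Modules := ShortComplex.mk j (cokernel.π j) (cokernel.condition j)
    have hS₂ : S₂.ShortExact :=
      { exact := ShortComplex.exact_of_g_is_cokernel _ (cokernelIsCokernel j)
        mono_f := inferInstanceAs (Mono j)
        epi_g := inferInstanceAs (Epi (cokernel.π j)) }
    have r3 : genRank (cokernel i) = genRank G + genRank (cokernel j) :=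
      genRank_add (S := S₂) hS₂ hG hC (QCohLib.isCoh_cokernel j hG.1 hC)
    have d3 : dg k (cokernel i) = dg k G + dg k (cokernel j) :=
      dg_add (k := k) (S := S₂) hS₂ hG hC (QCohLib.isCoh_cokernel j hG.1 hC)
    rw [genRank_eq hE] at hrJ
    have h := hss.le hdim hE _ hJ hinv
    rw [show dg k (kernel (cokernel.π i ≫ cokernel.π j)) = dg k F + dg k G by omega,
      show ((genRank (kernel (cokernel.π i ≫ cokernel.π j)) : ℕ) : ℤ) = (r' : ℤ) + (genRank G : ℤ) by omega] at h
    exact h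
  -- the torsion of the quotient
  let t := (torSub (cokernel i)).ι
  have hT := isCoh_torSub hC
  have hT0 := genRank_torSub (cokernel i)
  have hTz : IsZero (torSub (cokernel i)).toModules := by
    have hQ := QCohLib.isCoh_cokernel t hT.1 hC
    have htfQ := torsionFree_of_no_rank_zero hQ fun H a ha hH h0 => by
      exact isZero_of_torSub_quotient k hC a hH h0
    have hQr : FlatMod.IsFinLocFreeOfRank (genRank (cokernel t)) (cokernel t) :=
      rank_genRank ((Groth.Agent.S1688.result X (fun x => regular_stalk (k := k) x) hdim.le _ hQ).mp htfQ)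
    have hQ' := locFree_R hL hdim hQr
    have h0 : t ≫ φ' ≫ (R L).map (cokernel.π t) = 0 := by
      let c := t ≫ φ' ≫ (R L).map (cokernel.π t)
      obtain ⟨-, hI, hrI, -⟩ := ker_im_data (k := k) hT (CurvLib.isCoh_of_locFree hQ') c
      obtain ⟨-, -, -, -, hz⟩ := sub_data (k := k) hdim hQ' (Abelian.image.ι c) hI
      change c = 0
      rw [← Abelian.image.fac c, (hz (by omega)).eq_of_src (Abelian.image.ι c) 0, comp_zero]
    obtain ⟨χ, hχ⟩ := exists_lift hL (S := ShortComplex.mk t (cokernel.π t) (cokernel.condition t))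
      { exact := ShortComplex.exact_of_g_is_cokernel _ (cokernelIsCokernel t)
        mono_f := inferInstanceAs (Mono t)
        epi_g := inferInstanceAs (Epi (cokernel.π t)) }
      (t ≫ φ') (by rw [Category.assoc]; exact h0)
    have h := key _ t inferInstance φ' hφ' hT ⟨χ, hχ⟩
    rw [hT0, Nat.cast_zero, add_zero] at h
    obtain ⟨hnn, hz⟩ := dg_nonneg_of_rank_zero (k := k) hdim hT hT0
    refine hz ?_
    have : dg k (torSub (cokernel i)).toModules * (r : ℤ) ≤ 0 := by linarith
    exact le_antisymm (nonpos_of_mul_nonpos_left this (by exact_mod_cast hr)) hnn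
  have htf := torsionFree_of_no_rank_zero hC fun H a ha hH h0 => isZero_of_torSub_zero a hH h0 hTz
  have hCr := rank_genRank ((Groth.Agent.S1688.result X (fun x => regular_stalk (k := k) x) hdim.le _ hC).mp htf)
  rw [show genRank (cokernel i) = r - r' by omega] at hCr
  have hr'' : ((r - r' : ℕ) : ℤ) = (r : ℤ) - r' := by omega
  refine ⟨by omega, hCr, ?_, fun φ'' h'' G n j hj hn hG hji => ?_⟩
  · rw [hr'', hdg]
    rw [hdg] at hslope
    linarith
  · have h := key G j hj φ'' h'' (CurvLib.isCoh_of_locFree hG) hji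
    rw [genRank_eq hG] at h
    rw [deg_eq_dg hG, deg_eq_dg hCr, hr'']
    refine le_of_mul_le_mul_right ?_ (show (0 : ℤ) < (r : ℤ) by exact_mod_cast hr)
    have hX : dg k (cokernel i) * (r : ℤ) = dg k E * ((r : ℤ) - r') := by rw [hdg] at hslope ⊢; linarith
    have h' : dg k G * (r : ℤ) ≤ dg k E * (n : ℤ) := by linarith
    have h1 := mul_le_mul_of_nonneg_right h' (show (0 : ℤ) ≤ (r : ℤ) - r' by omega)
    have h2 : dg k E * (n : ℤ) * ((r : ℤ) - r') = dg k (cokernel i) * (n : ℤ) * (r : ℤ) := by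
      rw [mul_right_comm, ← hX]; ring
    linarith

end HiggsLib

end
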