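import Groth.Agent.HiggsLib.Slope
import Groth.Agent.GrassLib.SchProjSpace
import Groth.Agent.GenusOneSSLib.RankTwo

/-!
# Very stable bundles of rank two
-/

set_option autoImplicit false
set_option linter.style.haveILetI false
set_option maxHeartbeats 1000000
universe u

open CategoryTheory CategoryTheory.Limits AlgebraicGeometry TopologicalSpace Opposite
open DevissLib CurvLib CurveVBLib QCohLib

noncomputable section

namespace HiggsLib

variable {X : Scheme.{u}} {K : X.Modules} (hK : PicF.IsInvertible K)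

include hK

theorem twist_comp_self_zero {A E : X.Modules} (s : A ⟶ E) (t : E ⟶ (R K).obj A) (hst : s ≫ t = 0) :
    (t ≫ (R K).map s) ≫ (R K).map (t ≫ (R K).map s) = 0 := by
  haveI := isEquivalence_R hK
  haveI := ParGPLib.additive_tensorRight' K
  rw [Category.assoc, ← Functor.map_comp, ← Category.assoc s, hst, zero_comp, Functor.map_zero, comp_zero]

theorem ne_zero_of_mono {A E : X.Modules} (s : A ⟶ E) [Mono s] (t : E ⟶ (R K).obj A) (ht : t ≠ 0) :
    t ≫ (R K).map s ≠ 0 := by
  haveI := mono_map hK s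
  exact fun h => ht (by rw [← cancel_mono ((R K).map s), h, zero_comp])

variable {k : Type u} [Field k] [X.Over (Spec (CommRingCat.of k))]
  [IsIntegral X] [IsProper (X ↘ Spec (CommRingCat.of k))] [Smooth (X ↘ Spec (CommRingCat.of k))]
  (hdim : topologicalKrullDim X = 1)

include k hdim

/-- A nilpotent twisted endomorphism of a bundle of rank two gives a line subbundle. -/
theorem exists_subbundle {E : X.Modules} (hE : FlatMod.IsFinLocFreeOfRank 2 E) (α : E ⟶ (R K).obj E)
    (hα : α ≠ 0) (h : α ≫ (R K).map α = 0) :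
    ∃ (L : X.Modules) (j : L ⟶ E), PicF.IsInvertible L ∧ Mono j ∧ PicF.IsInvertible (cokernel j) ∧
      ∃ β : cokernel j ⟶ (R K).obj L, β ≠ 0 := by
  haveI := CurvLib.isNoetherian k (X := X)
  haveI := isEquivalence_R hK
  haveI := ParGPLib.additive_tensorRight' K
  have hEc := CurvLib.isCoh_of_locFree hE
  have hE' := locFree_R hK hdim hE
  obtain ⟨hKc, hI, hrk, -⟩ := ker_im_data (k := k) hEc (CurvLib.isCoh_of_locFree hE') α
  obtain ⟨hKr, -, -, -, hzK⟩ := sub_data (k := k) hdim hE (kernel.ι α) hKc
  obtain ⟨hIr, -, -, -, hzI⟩ := sub_data (k := k) hdim hE' (Abelian.image.ι α) hI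
  rw [genRank_eq hE] at hrk
  have hI0 : genRank (Abelian.image α) ≠ 0 := fun h0 => hα (by
    rw [← Abelian.image.fac α, (hzI h0).eq_of_src (Abelian.image.ι α) 0, comp_zero])
  have hK0 : genRank (kernel α) ≠ 0 := fun h0 => hα (by
    haveI : Mono α := Preadditive.mono_of_isZero_kernel _ (hzK h0)
    rw [← cancel_mono ((R K).map α), h, zero_comp])
  rw [show genRank (kernel α) = 1 by omega] at hKr
  rw [show genRank (Abelian.image α) = 1 by omega] at hIr
  let e : cokernel (kernel.ι α) ≅ Abelian.image α := Abelian.coimageIsoImage α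
  refine ⟨kernel α, kernel.ι α, GrassSch.isInvertible_of_rank_one hKr, inferInstance,
    HilbPolyLib.isInvertible_of_iso e.symm (GrassSch.isInvertible_of_rank_one hIr), ?_⟩
  obtain ⟨χ, hχ⟩ := exists_lift hK (S := kerImSeq α) (kerImSeq_shortExact α) (Abelian.image.ι α) (by
    change Abelian.image.ι α ≫ (R K).map (Abelian.factorThruImage α) = 0
    haveI : Mono ((R K).map (Abelian.image.ι α)) := mono_map hK _
    rw [← cancel_mono ((R K).map (Abelian.image.ι α)), zero_comp, Category.assoc, ← Functor.map_comp,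
      Abelian.image.fac, ← cancel_epi (Abelian.factorThruImage α), ← Category.assoc, Abelian.image.fac, h,
      comp_zero])
  refine ⟨e.hom ≫ χ, fun h0 => hI0 ?_⟩
  have h1 : χ = 0 := by rw [← cancel_epi e.hom, h0, comp_zero]
  rw [h1, zero_comp] at hχ
  exact genRank_of_isZero ((IsZero.iff_id_eq_zero _).mpr (by
    rw [← cancel_mono (Abelian.image.ι α), ← hχ, comp_zero, comp_zero]))

end HiggsLib

end
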